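import Groth.Agent.Sib43.Bounded

/-! Functors with isomorphic restrictions and no negative Homs agree on objects. -/

set_option autoImplicit false
universe w v u

namespace Groth.Agent.Sib43

open CategoryTheory CategoryTheory.Limits CategoryTheory.Pretriangulated DerivedCategory DEquiv

section Triangle

variable {C D : Type*} [Category C] [Category D] [HasShift C ℤ] [HasShift D ℤ]
  [Preadditive C] [HasZeroObject C] [∀ n : ℤ, (shiftFunctor C n).Additive] [Pretriangulated C]
  [Preadditive D] [HasZeroObject D] [∀ n : ℤ, (shiftFunctor D n).Additive] [Pretriangulated D]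
  {F F' : C ⥤ D} [F.CommShift ℤ] [F'.CommShift ℤ] [F.IsTriangulated] [F'.IsTriangulated]

/-- Completion of compatible isomorphisms to the middle of a triangle. -/
theorem exists_iso_of_triangle {T : Triangle C} (hT : T ∈ distTriang C)
    (a : F.obj T.obj₁ ≅ F'.obj T.obj₁) (b : F.obj T.obj₃ ≅ F'.obj T.obj₃)
    (h : Compat F F' T.mor₃ b (sh F F' 1 a)) :
    ∃ e : F.obj T.obj₂ ≅ F'.obj T.obj₂, Compat F F' T.mor₁ a e ∧ Compat F F' T.mor₂ e b := by
  have comm : (F.map T.mor₃ ≫ (F.commShiftIso (1 : ℤ)).hom.app T.obj₁) ≫ a.hom⟦(1 : ℤ)⟧' =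
      b.hom ≫ F'.map T.mor₃ ≫ (F'.commShiftIso (1 : ℤ)).hom.app T.obj₁ := by
    unfold Compat sh at h
    simp only [Iso.trans_hom, Iso.app_hom, Functor.mapIso_hom, Iso.symm_hom, Iso.app_inv] at h
    rw [← Category.assoc b.hom, ← h]
    simp
  obtain ⟨e, he₁, he₂⟩ := complete_distinguished_triangle_morphism₂ _ _
    (F.map_distinguished _ hT) (F'.map_distinguished _ hT) a.hom b.hom comm
  have : IsIso e := isIso₂_of_isIso₁₃
    (Triangle.homMk (F.mapTriangle.obj T) (F'.mapTriangle.obj T) a.hom e b.hom he₁ he₂ comm)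
    (F.map_distinguished _ hT) (F'.map_distinguished _ hT) (inferInstanceAs (IsIso a.hom))
    (inferInstanceAs (IsIso b.hom))
  exact ⟨@asIso _ _ _ _ e this, he₁, he₂⟩

end Triangle

variable {A : Type u} [Category.{v} A] [Abelian A] [HasDerivedCategory.{w} A]

local notation "τ" => (DerivedCategory.TStructure.t (C := A))

/-- A bounded object maps to an object in its lowest degree, injectively on cohomology. -/
theorem exists_triangle_bottom (X : DerivedCategory.Bounded A) (a : ℤ) (k : ℕ)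
    (hX : InR X a (a + (k + 1 : ℕ))) :
    ∃ (M : A) (K : DerivedCategory.Bounded A) (i : K ⟶ X) (p : X ⟶ ((singleB A).obj M)⟦-a⟧)
      (δ : ((singleB A).obj M)⟦-a⟧ ⟶ K⟦(1 : ℤ)⟧),
      Triangle.mk i p δ ∈ distTriang (DerivedCategory.Bounded A) ∧
        InR K (a + 1) (a + 1 + k) := by
  obtain ⟨h₁, h₂⟩ := hX
  obtain ⟨L, hL, ⟨e⟩⟩ := X.obj.exists_iso_Q_obj_of_isGE a
  have hd : L.d (a - 1) a = 0 := (L.isZero_of_isStrictlyGE a (a - 1) (by lia)).eq_of_src _ _
  let s : L ⟶ (HomologicalComplex.single A (ComplexShape.up ℤ) a).obj (L.X a) :=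
    HomologicalComplex.mkHomToSingle (𝟙 _) (fun j hj => by
      obtain rfl : j = a - 1 := by simp only [ComplexShape.up_Rel] at hj; lia
      rw [hd, zero_comp])
  let P : DerivedCategory.Bounded A := ((singleB A).obj (L.X a))⟦-a⟧
  let p₀ : X.obj ⟶ (singleFunctor A a).obj (L.X a) :=
    e.hom ≫ Q.map s ≫ ((singleFunctorIsoCompQ A a).app (L.X a)).inv
  have hm : Mono (HomologicalComplex.homologyMap s a) := by
    let S := (HomologicalComplex.single A (ComplexShape.up ℤ) a).obj (L.X a)
    have hdS : S.d (a - 1) a = 0 :=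
      (HomologicalComplex.isZero_single_obj_X (ComplexShape.up ℤ) a (L.X a) (a - 1) (by lia)).eq_of_src _ _
    have := L.isIso_homologyπ (a - 1) a (by simp) hd
    have := S.isIso_homologyπ (a - 1) a (by simp) hdS
    have : Mono (s.f a) := by
      rw [HomologicalComplex.mkHomToSingle_f]; infer_instance
    have : Mono (HomologicalComplex.cyclesMap s a) := by
      have : Mono (HomologicalComplex.cyclesMap s a ≫ S.iCycles a) := by
        rw [HomologicalComplex.cyclesMap_i]; infer_instance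
      exact mono_of_mono _ (S.iCycles a)
    have h1 : HomologicalComplex.homologyMap s a =
        inv (L.homologyπ a) ≫ HomologicalComplex.cyclesMap s a ≫ S.homologyπ a := by
      rw [IsIso.eq_inv_comp, HomologicalComplex.homologyπ_naturality]
    rw [h1]; infer_instance
  have hp₀ : Mono ((homologyFunctor A a).map p₀) := by
    have hQ : Mono ((homologyFunctor A a).map (Q.map s)) := by
      have h := (homologyFunctorFactors A a).hom.naturality s
      rw [← Iso.app_hom (homologyFunctorFactors A a) _, ← Iso.eq_comp_inv] at h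
      rw [show (homologyFunctor A a).map (Q.map s) = _ from h]
      have : Mono (((HomologicalComplex.homologyFunctor A (ComplexShape.up ℤ) a)).map s) := hm
      infer_instance
    simp only [p₀, Functor.map_comp]
    have h3 : Mono ((homologyFunctor A a).map ((singleFunctorIsoCompQ A a).app (L.X a)).inv) :=
      inferInstance
    have h4 : Mono ((homologyFunctor A a).map e.hom) := inferInstance
    exact mono_comp' h4 (((homologyFunctor A a).map_comp (Q.map s)
      ((singleFunctorIsoCompQ A a).app (L.X a)).inv).symm ▸ mono_comp' hQ h3)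
  let p : X ⟶ P := ObjectProperty.homMk (p₀ ≫ (pureIso (L.X a) a).inv)
  have hp : Mono ((homologyFunctor A a).map p.hom) := by
    change Mono ((homologyFunctor A a).map (p₀ ≫ (pureIso (L.X a) a).inv))
    rw [Functor.map_comp]; infer_instance
  obtain ⟨K, i, δ, hT⟩ := distinguished_cocone_triangle₁ p
  refine ⟨L.X a, K, i, p, δ, hT, ?_⟩
  obtain ⟨hP₁, hP₂⟩ := inR_pure (L.X a) a
  let T := DerivedCategory.Bounded.ι.mapTriangle.obj (Triangle.mk i p δ)
  have hT' : T ∈ distTriang (DerivedCategory A) := hT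
  have hTi := inv_rot_of_distTriang _ hT'
  have hge : (τ).IsGE K.obj a := by
    have : (τ).IsGE (P.obj⟦(-1 : ℤ)⟧) a := by
      have := (τ).isGE_shift P.obj a (-1) (a + 1) (by lia)
      exact (τ).isGE_of_ge _ a (a + 1) (by lia)
    exact (τ).isGE₂ _ hTi a this h₁
  refine ⟨(DerivedCategory.isGE_iff _ _).2 fun j hj => ?_, ?_⟩
  · by_cases h : j < a
    · exact DerivedCategory.isZero_of_isGE K.obj a j h
    · obtain rfl : j = a := by lia
      have hz := DerivedCategory.isZero_of_isGE P.obj j (j - 1) (by lia)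
      have h0 : (homologyFunctor A j).map T.mor₁ = 0 := by
        have : (homologyFunctor A j).map T.mor₁ ≫ (homologyFunctor A j).map T.mor₂ = 0 := by
          rw [← Functor.map_comp, comp_distTriang_mor_zero₁₂ _ hT', Functor.map_zero]
        have : Mono ((homologyFunctor A j).map T.mor₂) := hp
        exact (cancel_mono ((homologyFunctor A j).map T.mor₂)).1 (‹(homologyFunctor A j).map T.mor₁ ≫ _ = 0›.trans zero_comp.symm)
      have hmono : Mono ((homologyFunctor A j).map T.mor₁) :=
        (HomologySequence.mono_homologyMap_mor₁_iff _ hT' (j - 1) j (by lia)).2 (hz.eq_of_src _ _)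
      exact @IsZero.of_mono_eq_zero _ _ _ _ _ ((homologyFunctor A j).map T.mor₁) hmono h0
  · have : (τ).IsLE (P.obj⟦(-1 : ℤ)⟧) (a + 1 + k) := by
      have := (τ).isLE_shift P.obj a (-1) (a + 1) (by lia)
      exact (τ).isLE_of_le _ (a + 1) _ (by lia)
    have : (τ).IsLE X.obj (a + 1 + k) := (τ).isLE_of_le _ (a + (k + 1 : ℕ)) _ (by lia)
    exact (τ).isLE₂ _ hTi (a + 1 + k) ‹_› ‹_›

variable {D : Type*} [Category D] [Preadditive D] [HasZeroObject D] [HasShift D ℤ]
  [∀ n : ℤ, (shiftFunctor D n).Additive] [Pretriangulated D]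
  {F F' : DerivedCategory.Bounded A ⥤ D} [F.CommShift ℤ] [F.IsTriangulated]
  [F'.CommShift ℤ] [F'.IsTriangulated] (c : singleB A ⋙ F ≅ singleB A ⋙ F')

/-- The negative degree vanishing for `F`. -/
def NegVanish (F : DerivedCategory.Bounded A ⥤ D) : Prop :=
  ∀ (M N : A) (q : ℤ), q < 0 →
    ∀ f : F.obj ((singleB A).obj M) ⟶ (F.obj ((singleB A).obj N))⟦q⟧, f = 0

variable (h2 : NegVanish F)

include h2

theorem natural_singleB (M N : A) (n : ℤ) (u : (singleB A).obj M ⟶ ((singleB A).obj N)⟦n⟧) :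
    Compat F F' u (cc c M) (sh F F' n (cc c N)) :=
  natural_pure hom_eq_zero_neg h2 exists_triangle_comp_zero M N n u

theorem good_compat {X Y : DerivedCategory.Bounded A} {a : F.obj X ≅ F'.obj X}
    {b : F.obj Y ≅ F'.obj Y} (ha : Good (singleB A) F F' c a) (hb : Good (singleB A) F F' c b)
    (u : X ⟶ Y) : Compat F F' u a b :=
  Good.compat (natural_singleB c h2) ha hb u

include c in
/-- No morphisms from a pure object to the image of a more connective object. -/
theorem hom_pure_eq_zero (M : A) (q : ℤ) (Z : DerivedCategory.Bounded A) (hZ : Z.obj.IsGE (q + 1))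
    (f : F.obj (((singleB A).obj M)⟦-q⟧) ⟶ F'.obj Z) : f = 0 := by
  revert f
  refine bounded_induction
    (fun Z => ∀ f : F.obj (((singleB A).obj M)⟦-q⟧) ⟶ F'.obj Z, f = 0)
    (fun X Y e hX f => ?_) (fun T hT h₁ h₃ f => ?_) (q + 1) (fun N j hj f => ?_) Z hZ
  · exact (cancel_mono (F'.map e.inv)).1 ((hX _).trans zero_comp.symm)
  · obtain ⟨g, hg⟩ := Triangle.coyoneda_exact₂ _ (F'.map_distinguished _ hT) f (h₃ _)
    rw [hg, h₁ g]
    exact zero_comp
  · exact hom_eq_zero_of_neg' (c := c) h2 (by lia) f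

/-- Isomorphisms `F X ≅ F' X` compatible with the lowest degree. -/
theorem exists_iso_bottom (k : ℕ) (X : DerivedCategory.Bounded A) (a : ℤ) (hX : InR X a (a + k)) :
    ∃ (M : A) (p : X ⟶ ((singleB A).obj M)⟦-a⟧) (ψ : F.obj X ≅ F'.obj X),
      Compat F F' p ψ (sh F F' (-a) (cc c M)) ∧
        ∀ (N : A) (q : ℤ), q < a → ∀ e : F.obj (((singleB A).obj N)⟦-q⟧) ⟶ F'.obj (X⟦(1 : ℤ)⟧),
          e ≫ F'.map (p⟦(1 : ℤ)⟧') = 0 → e = 0 := by
  induction k generalizing X a with
  | zero =>
    obtain ⟨M, ⟨e⟩⟩ := exists_iso_pure (by simpa using hX)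
    exact ⟨M, e.hom, transport e (sh F F' (-a) (cc c M)), compat_transport e _,
      fun N q _ f hf => (cancel_mono (F'.map (e.hom⟦(1 : ℤ)⟧'))).1 (hf.trans zero_comp.symm)⟩
  | succ k ih =>
    obtain ⟨M, K, i, p, δ, hT, hK⟩ := exists_triangle_bottom X a k hX
    obtain ⟨M', p', ψ', hp', hZ'⟩ := ih K (a + 1) hK
    have hδ : Compat F F' δ (sh F F' (-a) (cc c M)) (sh F F' 1 ψ') := by
      unfold Compat
      rw [← sub_eq_zero]
      refine hZ' M a (by lia) _ ?_
      rw [Preadditive.sub_comp, sub_eq_zero, Category.assoc, Category.assoc]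
      have h1 : Compat F F' (p'⟦(1 : ℤ)⟧') (sh F F' 1 ψ') (sh F F' 1 (sh F F' (-(a + 1)) (cc c M'))) :=
        hp'.shift 1
      have h3 : Compat F F' (δ ≫ p'⟦(1 : ℤ)⟧') (sh F F' (-a) (cc c M))
          (sh F F' 1 (sh F F' (-(a + 1)) (cc c M'))) :=
        good_compat c h2 ((good_single M).shift (-a)) (((good_single M').shift (-(a + 1))).shift 1) _
      unfold Compat at h1 h3
      rw [← h1, ← F.map_comp_assoc, ← F'.map_comp]
      exact h3
    obtain ⟨ψ, -, hψ⟩ := exists_iso_of_triangle hT ψ' (sh F F' (-a) (cc c M)) hδ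
    refine ⟨M, p, ψ, hψ, fun N q hq e he => ?_⟩
    have hrot := rot_of_distTriang _ (F'.map_distinguished _ hT)
    have he' : (e ≫ (F'.commShiftIso (1 : ℤ)).hom.app X) ≫ (F'.map p)⟦(1 : ℤ)⟧' = 0 := by
      rw [Category.assoc, ← Functor.commShiftIso_hom_naturality, reassoc_of% he, zero_comp]
    obtain ⟨g, hg⟩ := Triangle.coyoneda_exact₁ _ hrot _ he'
    change F.obj (((singleB A).obj N)⟦-q⟧) ⟶ (F'.obj K)⟦(1 : ℤ)⟧ at g
    have hg0 : g ≫ (F'.commShiftIso (1 : ℤ)).inv.app K = 0 := by
      refine hom_pure_eq_zero c h2 N q (K⟦(1 : ℤ)⟧) ?_ _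
      exact ((hK.shift 1).mono (show q + 1 ≤ a + 1 - 1 by lia) le_rfl).1
    have hg0' : g = 0 := (cancel_mono _).1 (hg0.trans zero_comp.symm)
    subst hg0'
    exact (cancel_mono ((F'.commShiftIso (1 : ℤ)).hom.app X)).1
      (hg.trans (zero_comp.trans zero_comp.symm))

theorem nonempty_iso (K : DerivedCategory.Bounded A) (c : singleB A ⋙ F ≅ singleB A ⋙ F') :
    Nonempty (F.obj K ≅ F'.obj K) := by
  obtain ⟨a, b, hK⟩ := exists_inR K
  obtain ⟨M, p, ψ, -⟩ := exists_iso_bottom c h2 (b - a).toNat K a (hK.mono le_rfl (by lia))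
  exact ⟨ψ⟩

end Groth.Agent.Sib43
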