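import Groth.Agent.Sib43.Siblings

/-! Siblings of fully faithful functors are fully faithful. -/

set_option autoImplicit false
universe w v u

namespace Groth.Agent.Sib43

open CategoryTheory CategoryTheory.Limits CategoryTheory.Pretriangulated DerivedCategory DEquiv

section

variable {C D : Type*} [Category C] [Category D] [HasShift C ℤ] [HasShift D ℤ]
  [Preadditive C] [HasZeroObject C] [∀ n : ℤ, (shiftFunctor C n).Additive] [Pretriangulated C]
  [Preadditive D] [HasZeroObject D] [∀ n : ℤ, (shiftFunctor D n).Additive] [Pretriangulated D]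
  (G : C ⥤ D) [G.CommShift ℤ] [G.IsTriangulated]

/-- `G` is bijective on morphisms from `X` to `Y`. -/
def Bij (X Y : C) : Prop := Function.Bijective (G.map : (X ⟶ Y) → _)

variable {G}

omit [HasShift C ℤ] [HasShift D ℤ] in
theorem Bij.of_iso {X Y X' Y' : C} (h : Bij G X Y) (e : X ≅ X') (e' : Y ≅ Y') : Bij G X' Y' := by
  constructor
  · intro f g hfg
    have := h.1 (a₁ := e.hom ≫ f ≫ e'.inv) (a₂ := e.hom ≫ g ≫ e'.inv) (by simp [hfg])
    simpa using this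
  · intro φ
    obtain ⟨f, hf⟩ := h.2 (G.map e.hom ≫ φ ≫ G.map e'.inv)
    exact ⟨e.inv ≫ f ≫ e'.hom, by simp [hf, ← Functor.map_comp_assoc, ← G.map_comp]⟩

theorem bij_tgt {T : Triangle C} (hT : T ∈ distTriang C) {X : C} (h₁ : Bij G X T.obj₁)
    (h₃ : Bij G X T.obj₃) (h₀ : Bij G X (T.obj₃⟦(-1 : ℤ)⟧)) (h₄ : Bij G X (T.obj₁⟦(1 : ℤ)⟧)) :
    Bij G X T.obj₂ := by
  have hGT := G.map_distinguished _ hT
  have hT' := inv_rot_of_distTriang _ hT
  have inj : ∀ f : X ⟶ T.obj₂, G.map f = 0 → f = 0 := by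
    intro f hf
    have h0 : f ≫ T.mor₂ = 0 := h₃.1 (by simp [hf])
    obtain ⟨g, hg⟩ := Triangle.coyoneda_exact₂ _ hT f h0
    obtain ⟨φ, hφ⟩ := Triangle.coyoneda_exact₂ _ (G.map_distinguished _ hT') (G.map g) (by
      change G.map g ≫ G.map T.mor₁ = 0
      rw [← G.map_comp, ← hg, hf])
    change G.obj X ⟶ G.obj (T.obj₃⟦(-1 : ℤ)⟧) at φ
    obtain ⟨g', hg'⟩ := h₀.2 φ
    have : g = g' ≫ T.invRotate.mor₁ := h₁.1
      (hφ.trans ((congrArg (· ≫ _) hg'.symm).trans (G.map_comp g' T.invRotate.mor₁).symm))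
    have hz : T.invRotate.mor₁ ≫ T.mor₁ = 0 := comp_distTriang_mor_zero₁₂ _ hT'
    rw [hg, this]
    exact (Category.assoc _ _ _).trans ((congrArg (g' ≫ ·) hz).trans comp_zero)
  refine ⟨fun f g hfg => sub_eq_zero.1 (inj _ (by rw [G.map_sub, hfg, sub_self])), fun φ => ?_⟩
  obtain ⟨g, hg⟩ := h₃.2 (φ ≫ G.map T.mor₂)
  have h0 : g ≫ T.mor₃ = 0 := h₄.1 (by
    rw [G.map_comp, hg, Category.assoc, ← G.map_comp, comp_distTriang_mor_zero₂₃ _ hT, G.map_zero,
      comp_zero, G.map_zero])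
  obtain ⟨f, hf⟩ := Triangle.coyoneda_exact₃ _ hT g h0
  obtain ⟨ψ, hψ⟩ := Triangle.coyoneda_exact₂ _ hGT (φ - G.map f) (by
    change (φ - G.map f) ≫ G.map T.mor₂ = 0
    rw [Preadditive.sub_comp, ← G.map_comp, ← hf, hg, sub_self])
  change G.obj X ⟶ G.obj T.obj₁ at ψ
  replace hψ : φ - G.map f = ψ ≫ G.map T.mor₁ := hψ
  obtain ⟨f', rfl⟩ := h₁.2 ψ
  exact ⟨f + f' ≫ T.mor₁, by rw [G.map_add, G.map_comp, ← hψ]; abel⟩

theorem bij_src {T : Triangle C} (hT : T ∈ distTriang C) {Y : C} (h₁ : Bij G T.obj₁ Y)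
    (h₃ : Bij G T.obj₃ Y) (h₀ : Bij G (T.obj₁⟦(1 : ℤ)⟧) Y) (h₄ : Bij G (T.obj₃⟦(-1 : ℤ)⟧) Y) :
    Bij G T.obj₂ Y := by
  have hGT := G.map_distinguished _ hT
  have hT' := rot_of_distTriang _ hT
  have inj : ∀ f : T.obj₂ ⟶ Y, G.map f = 0 → f = 0 := by
    intro f hf
    have h0 : T.mor₁ ≫ f = 0 := h₁.1 (by simp [hf])
    obtain ⟨g, hg⟩ := Triangle.yoneda_exact₂ _ hT f h0
    obtain ⟨φ, hφ⟩ := Triangle.yoneda_exact₂ _ (G.map_distinguished _ hT') (G.map g) (by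
      change G.map T.mor₂ ≫ G.map g = 0
      rw [← G.map_comp, ← hg, hf])
    change G.obj (T.obj₁⟦(1 : ℤ)⟧) ⟶ G.obj Y at φ
    obtain ⟨g', hg'⟩ := h₀.2 φ
    have : g = T.mor₃ ≫ g' := h₃.1 (by
      rw [G.map_comp, hg']
      exact hφ)
    rw [hg, this, ← Category.assoc, comp_distTriang_mor_zero₂₃ _ hT, zero_comp]
  refine ⟨fun f g hfg => sub_eq_zero.1 (inj _ (by rw [G.map_sub, hfg, sub_self])), fun φ => ?_⟩
  obtain ⟨g, hg⟩ := h₁.2 (G.map T.mor₁ ≫ φ)
  have hz : T.invRotate.mor₁ ≫ T.mor₁ = 0 :=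
    comp_distTriang_mor_zero₁₂ _ (inv_rot_of_distTriang _ hT)
  have h0 : T.invRotate.mor₁ ≫ g = 0 := h₄.1
    (((G.map_comp T.invRotate.mor₁ g).trans ((congrArg (_ ≫ ·) hg).trans
      ((Category.assoc _ _ _).symm.trans ((congrArg (· ≫ φ)
        (((G.map_comp _ _).symm.trans (congrArg G.map hz)).trans (G.map_zero _ _))).trans zero_comp)))).trans
      (G.map_zero _ _).symm)
  obtain ⟨f, hf⟩ := Triangle.yoneda_exact₂ _ (inv_rot_of_distTriang _ hT) g h0
  change T.obj₂ ⟶ Y at f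
  replace hf : g = T.mor₁ ≫ f := hf
  obtain ⟨ψ, hψ⟩ := Triangle.yoneda_exact₂ _ hGT (φ - G.map f) (by
    change G.map T.mor₁ ≫ (φ - G.map f) = 0
    rw [Preadditive.comp_sub, ← G.map_comp, ← hf, hg, sub_self])
  change G.obj T.obj₃ ⟶ G.obj Y at ψ
  replace hψ : φ - G.map f = G.map T.mor₂ ≫ ψ := hψ
  obtain ⟨f', rfl⟩ := h₃.2 ψ
  exact ⟨f + T.mor₂ ≫ f', by rw [G.map_add, G.map_comp, ← hψ]; abel⟩

end

variable {A : Type u} [Category.{v} A] [Abelian A] [HasDerivedCategory.{w} A]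
  {D : Type*} [Category D] [Preadditive D] [HasZeroObject D] [HasShift D ℤ]
  [∀ n : ℤ, (shiftFunctor D n).Additive] [Pretriangulated D]
  {F F' : DerivedCategory.Bounded A ⥤ D} [F.CommShift ℤ] [F.IsTriangulated]
  [F'.CommShift ℤ] [F'.IsTriangulated]

theorem negVanish_of_fullyFaithful [F.Full] [F.Faithful] : NegVanish F := by
  intro M N q hq f
  obtain ⟨u, hu⟩ := F.map_surjective (f ≫ (F.commShiftIso q).inv.app _)
  rw [hom_eq_zero_neg M N q hq u, F.map_zero] at hu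
  exact (cancel_mono _).1 (hu.symm.trans zero_comp.symm)

theorem bij_all [F.Full] [F.Faithful] (c : singleB A ⋙ F ≅ singleB A ⋙ F')
    (X Y : DerivedCategory.Bounded A) : Bij F' X Y := by
  have h2 : NegVanish F := negVanish_of_fullyFaithful
  have base : ∀ {X Y : DerivedCategory.Bounded A} {a : F.obj X ≅ F'.obj X} {b : F.obj Y ≅ F'.obj Y},
      Good (singleB A) F F' c a → Good (singleB A) F F' c b → Bij F' X Y := by
    intro X Y a b ha hb
    constructor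
    · intro f g hfg
      apply F.map_injective
      have hf : F.map f ≫ b.hom = a.hom ≫ F'.map f := good_compat c h2 ha hb f
      have hg : F.map g ≫ b.hom = a.hom ≫ F'.map g := good_compat c h2 ha hb g
      rw [← cancel_mono b.hom, hf, hg, hfg]
    · intro φ
      obtain ⟨f, hf⟩ := F.map_surjective (a.hom ≫ φ ≫ b.inv)
      refine ⟨f, ?_⟩
      rw [← cancel_epi a.hom, ← show F.map f ≫ b.hom = a.hom ≫ F'.map f from good_compat c h2 ha hb f,
        hf]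
      simp
  have tgt : ∀ (Y : DerivedCategory.Bounded A) (M : A) (q k : ℤ),
      Bij F' (((singleB A).obj M)⟦q⟧) (Y⟦k⟧) := by
    intro Y
    obtain ⟨a, b, hY⟩ := exists_inR Y
    refine bounded_induction
      (fun Y => ∀ (M : A) (q k : ℤ), Bij F' (((singleB A).obj M)⟦q⟧) (Y⟦k⟧))
      (fun X Y e h M q k => (h M q k).of_iso (Iso.refl _) ((shiftFunctor _ k).mapIso e))
      (fun T hT h₁ h₃ M q k => ?_) a
      (fun N j _ M q k => base ((good_single M).shift q) (((good_single N).shift (-j)).shift k))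
      Y hY.1
    refine bij_tgt (Triangle.shift_distinguished _ hT k) (h₁ M q k) (h₃ M q k) ?_ ?_
    · exact (h₃ M q (k - 1)).of_iso (Iso.refl _)
        ((shiftFunctorAdd' _ k (-1) (k - 1) (by lia)).app _)
    · exact (h₁ M q (k + 1)).of_iso (Iso.refl _)
        ((shiftFunctorAdd' _ k 1 (k + 1) rfl).app _)
  obtain ⟨a, b, hX⟩ := exists_inR X
  have src : ∀ (k : ℤ) (Y : DerivedCategory.Bounded A), Bij F' (X⟦k⟧) Y := by
    refine bounded_induction (fun X => ∀ (k : ℤ) (Y : DerivedCategory.Bounded A), Bij F' (X⟦k⟧) Y)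
      (fun X Y e h k Z => (h k Z).of_iso ((shiftFunctor _ k).mapIso e) (Iso.refl _))
      (fun T hT h₁ h₃ k Y => ?_) a (fun M j _ k Y => ?_) X hX.1
    · refine bij_src (Triangle.shift_distinguished _ hT k) (h₁ k Y) (h₃ k Y) ?_ ?_
      · exact (h₁ (k + 1) Y).of_iso
          ((shiftFunctorAdd' _ k 1 (k + 1) rfl).app _) (Iso.refl _)
      · exact (h₃ (k - 1) Y).of_iso
          ((shiftFunctorAdd' _ k (-1) (k - 1) (by lia)).app _) (Iso.refl _)
    · exact (tgt Y M (-j + k) 0).of_iso ((shiftFunctorAdd' _ (-j) k (-j + k) rfl).app _)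
        ((shiftFunctorZero _ ℤ).app Y)
  exact (src 0 Y).of_iso ((shiftFunctorZero _ ℤ).app X) (Iso.refl _)

theorem full_faithful [F.Full] [F.Faithful] (c : singleB A ⋙ F ≅ singleB A ⋙ F') :
    F'.Full ∧ F'.Faithful :=
  ⟨⟨fun {X Y} => (bij_all c X Y).2⟩, ⟨fun {X Y} _ _ h => (bij_all c X Y).1 h⟩⟩

end Groth.Agent.Sib43
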