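import Groth.Agent.Sib43.Negative

/-! Siblings of fully faithful functors are isomorphic when there are enough negative objects. -/

set_option autoImplicit false
universe w v u

namespace Groth.Agent.Sib43

open CategoryTheory CategoryTheory.Limits CategoryTheory.Pretriangulated DerivedCategory DEquiv
open scoped ZeroObject

variable {A : Type u} [Category.{v} A] [Abelian A] [HasDerivedCategory.{w} A]
  {D : Type*} [Category D] [Preadditive D] [HasZeroObject D] [HasShift D ℤ]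
  [∀ n : ℤ, (shiftFunctor D n).Additive] [Pretriangulated D]
  {F F' : DerivedCategory.Bounded A ⥤ D} [F.CommShift ℤ] [F.IsTriangulated]
  [F'.CommShift ℤ] [F'.IsTriangulated] (c : singleB A ⋙ F ≅ singleB A ⋙ F')

/-- Amplitude at most `n`. -/
def Amp (n : ℕ) (X : DerivedCategory.Bounded A) : Prop := ∃ a : ℤ, InR X a (a + n)

theorem Amp.mono {n m : ℕ} {X : DerivedCategory.Bounded A} (h : Amp n X) (hnm : n ≤ m) : Amp m X := by
  obtain ⟨a, ha⟩ := h
  exact ⟨a, ha.mono le_rfl (by lia)⟩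

theorem amp_of_inR {n : ℕ} {X : DerivedCategory.Bounded A} {a b : ℤ} (h : InR X a b)
    (hb : b ≤ a + n) : Amp n X :=
  ⟨a, h.mono le_rfl hb⟩

theorem exists_amp (X : DerivedCategory.Bounded A) : ∃ n : ℕ, Amp n X := by
  obtain ⟨a, b, h⟩ := exists_inR X
  exact ⟨(b - a).toNat, amp_of_inR h (by lia)⟩

theorem amp_pureB (n : ℕ) (N : A) (b : ℤ) : Amp n (pureB N b) :=
  amp_of_inR (inR_pure N b) (by lia)

theorem amp_pureB_shift (n : ℕ) (N : A) (b : ℤ) : Amp n ((pureB N b)⟦(1 : ℤ)⟧) :=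
  amp_of_inR ((inR_pure N b).shift 1) (by lia)

/-- A natural family of isomorphisms on objects of amplitude at most `n`. -/
structure Sol (n : ℕ) where
  η : ∀ X : DerivedCategory.Bounded A, Amp n X → (F.obj X ≅ F'.obj X)
  nat : ∀ (X Y : DerivedCategory.Bounded A) (hX : Amp n X) (hY : Amp n Y) (u : X ⟶ Y),
    Compat F F' u (η X hX) (η Y hY)
  good : ∀ (X : DerivedCategory.Bounded A) (hX : Amp n X) (a : F.obj X ≅ F'.obj X),
    Good (singleB A) F F' c a → η X hX = a

variable [F.Full] [F.Faithful]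

theorem exists_good_of_amp_zero {X : DerivedCategory.Bounded A} (h : Amp 0 X) :
    ∃ a : F.obj X ≅ F'.obj X, Good (singleB A) F F' c a := by
  obtain ⟨a, ha⟩ := h
  obtain ⟨M, ⟨e⟩⟩ := exists_iso_pure (by simpa using ha)
  exact exists_good e

/-- The solution in amplitude zero. -/
noncomputable def sol0 : Sol c 0 where
  η X hX := (exists_good_of_amp_zero c hX).choose
  nat _ _ hX hY u := good_compat c negVanish_of_fullyFaithful
    (exists_good_of_amp_zero c hX).choose_spec (exists_good_of_amp_zero c hY).choose_spec u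
  good X hX a ha := eq_of_compat_id (good_compat c negVanish_of_fullyFaithful
    (exists_good_of_amp_zero c hX).choose_spec ha (𝟙 X))

variable (hneg : ∀ X : A, ∃ (N : A) (p : N ⟶ X), Epi p ∧ ∀ f : X ⟶ N, f = 0)
  (h2 : ∀ K : DerivedCategory.Bounded A, Nonempty (F.obj K ≅ F'.obj K))

omit [F.CommShift ℤ] [F.IsTriangulated] [F'.CommShift ℤ] [F'.IsTriangulated] [F.Faithful] in
include h2 in
theorem vanish [F.Additive] {X Y : DerivedCategory.Bounded A} (h : ∀ u : X ⟶ Y, u = 0)
    (f : F.obj X ⟶ F'.obj Y) : f = 0 := by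
  obtain ⟨e⟩ := h2 Y
  obtain ⟨u, hu⟩ := F.map_surjective (f ≫ e.inv)
  rw [h u, F.map_zero] at hu
  exact (cancel_mono e.inv).1 (hu.symm.trans zero_comp.symm)

omit [F.Faithful] in
include h2 in
theorem ntri_unique {X : DerivedCategory.Bounded A} {b : ℤ} (T : NTri X b)
    {ξ ξ' : F.obj X ≅ F'.obj X} {η' : F.obj T.X' ≅ F'.obj T.X'}
    (h : Compat F F' T.π ξ η') (h' : Compat F F' T.π ξ' η') : ξ = ξ' := by
  obtain ⟨r, hr⟩ := Triangle.coyoneda_exact₂ _ (F'.map_distinguished _ T.mem) (ξ.hom - ξ'.hom) (by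
    change (ξ.hom - ξ'.hom) ≫ F'.map T.π = 0
    unfold Compat at h h'
    rw [Preadditive.sub_comp, ← h, ← h', sub_self])
  change F.obj X ⟶ F'.obj (pureB T.N b) at r
  obtain rfl : r = 0 := vanish h2 T.zero r
  exact Iso.ext (sub_eq_zero.1 (hr.trans zero_comp))

variable {c}

/-- The characterisation of the isomorphism on objects of amplitude `n + 1`. -/
def Spec {n : ℕ} (s : Sol c n) (X : DerivedCategory.Bounded A) (ξ : F.obj X ≅ F'.obj X) : Prop :=
  (∀ h : Amp n X, ξ = s.η X h) ∧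
    ∀ (a b : ℤ), InR X a b → b ≤ a + n + 1 → ∀ (T : NTri X b) (hT : Amp n T.X'),
      Compat F F' T.g (sh F F' (-b) (cc c T.N)) ξ ∧ Compat F F' T.π ξ (s.η T.X' hT)

include hneg h2

theorem exists_spec {n : ℕ} (s : Sol c n) (X : DerivedCategory.Bounded A) (hX : Amp (n + 1) X) :
    ∃ ξ, Spec s X ξ := by
  by_cases h : Amp n X
  · refine ⟨s.η X h, fun _ => rfl, fun a b _ _ T hT => ⟨?_, s.nat _ _ h hT T.π⟩⟩
    have := s.nat _ _ (amp_pureB n T.N b) h T.g
    rwa [s.good _ _ _ ((good_single T.N).shift (-b))] at this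
  obtain ⟨a₀, ha₀⟩ := hX
  obtain ⟨b₀, hb₀⟩ : ∃ b₀, b₀ = a₀ + (n + 1 : ℕ) := ⟨_, rfl⟩
  rw [← hb₀] at ha₀
  have hsub : ∀ (T : NTri X b₀), Amp n T.X' := fun T =>
    amp_of_inR (T.inR ha₀) (by lia)
  have mk : ∀ T : NTri X b₀, ∃ ξ : F.obj X ≅ F'.obj X,
      Compat F F' T.g (sh F F' (-b₀) (cc c T.N)) ξ ∧ Compat F F' T.π ξ (s.η T.X' (hsub T)) := by
    intro T
    refine exists_iso_of_triangle T.mem (sh F F' (-b₀) (cc c T.N)) (s.η T.X' (hsub T)) ?_
    have := s.nat _ _ (hsub T) (amp_pureB_shift n T.N b₀) T.δ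
    rwa [s.good _ _ _ (((good_single T.N).shift (-b₀)).shift 1)] at this
  obtain ⟨T₁, -, -⟩ := exists_nTri hneg ha₀ ha₀ (Z := pureB (0 : A) (b₀ - 1))
    (inR_pure _ _).2 le_rfl 0
  obtain ⟨ξ, hξ⟩ := mk T₁
  refine ⟨ξ, fun h' => absurd h' h, fun a b hab hle T hT => ?_⟩
  obtain rfl : b = b₀ := by
    by_contra hne
    apply h
    refine ⟨max a a₀, ?_, ?_⟩
    · rcases le_total a a₀ with h' | h'
      · rw [max_eq_right h']; exact ha₀.1
      · rw [max_eq_left h']; exact hab.1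
    · have hb : X.obj.IsLE (min b b₀) := by
        rcases le_total b b₀ with h' | h'
        · rw [min_eq_left h']; exact hab.2
        · rw [min_eq_right h']; exact ha₀.2
      exact (DerivedCategory.TStructure.t (C := A)).isLE_of_le _ (min b b₀) _ (by lia)
  obtain ⟨ξ', hξ'⟩ := mk T
  obtain ⟨T'', h₁, h₃, e₁, e₃⟩ := NTri.exists_sum T₁ T
  obtain ⟨ξ'', hξ''⟩ := mk T''
  have l₁ := hξ.2.comp (s.nat _ _ _ (hsub T'') h₁)
  have l₃ := hξ'.2.comp (s.nat _ _ _ (hsub T'') h₃)
  rw [e₁] at l₁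
  rw [e₃] at l₃
  obtain rfl : ξ = ξ'' := ntri_unique h2 T'' l₁ hξ''.2
  obtain rfl : ξ' = ξ := ntri_unique h2 T'' l₃ hξ''.2
  exact hξ'

theorem nat_of_spec {n : ℕ} (s : Sol c n) (ξ : ∀ X, Amp (n + 1) X → (F.obj X ≅ F'.obj X))
    (hξ : ∀ X hX, Spec s X (ξ X hX)) :
    ∀ (m p q gap : ℕ), p + q = m → p ≤ n + 1 → q ≤ n + 1 →
      ∀ (X Y : DerivedCategory.Bounded A) (hX : Amp (n + 1) X) (hY : Amp (n + 1) Y) (a b a' b' : ℤ),
      InR X a b → b ≤ a + p → InR Y a' b' → b' ≤ a' + q → b ≤ b' + gap →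
      ∀ u : X ⟶ Y, Compat F F' u (ξ X hX) (ξ Y hY) := by
  intro m
  induction m using Nat.strong_induction_on with
  | _ m ihm =>
  intro p q gap
  induction gap using Nat.strong_induction_on generalizing p q with
  | _ gap ihg =>
  intro hm hp hq X Y hX hY a b a' b' hXab hpa hYab hqa hgap u
  by_cases hbb : b' < b
  · -- kill the top of the source
    obtain ⟨T, hTu, -⟩ := exists_nTri hneg hXab hXab hYab.2 (by lia) u
    obtain ⟨u', hu'⟩ := Triangle.yoneda_exact₂ _ T.mem u hTu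
    change T.X' ⟶ Y at u'
    replace hu' : u = T.π ≫ u' := hu'
    have hX'n : Amp n T.X' := amp_of_inR (T.inR hXab) (by lia)
    have hπ : Compat F F' T.π (ξ X hX) (ξ T.X' (hX'n.mono (Nat.le_succ n))) := by
      rw [(hξ T.X' _).1 hX'n]
      exact ((hξ X hX).2 a b hXab (by lia) T hX'n).2
    rw [hu']
    refine hπ.comp ?_
    rcases Nat.eq_zero_or_pos p with hp0 | hp0
    · subst hp0
      exact ihg ((b - 1 - b').toNat) (by lia) 0 q hm hp hq T.X' Y _ hY _ _ a' b' (T.inR hXab)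
        (by lia) hYab hqa (by lia) u'
    · exact ihm (p - 1 + q) (by lia) (p - 1) q ((b - 1 - b').toNat) rfl (by lia) hq T.X' Y _ hY _ _
        a' b' (T.inR hXab) (by lia) hYab hqa (by lia) u'
  · rcases Nat.eq_zero_or_pos q with hq0 | hq0
    · subst hq0
      by_cases hlt : b < b'
      · obtain rfl : u = 0 := hom_eq_zero hXab (hYab.mono (show b' ≤ a' by lia) le_rfl) hlt u
        simp [Compat]
      obtain rfl : b = b' := by lia
      have hYn : Amp n Y := amp_of_inR hYab (by lia)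
      obtain ⟨T, -, -⟩ := exists_nTri hneg hXab hXab (Z := pureB (0 : A) (b - 1))
        (inR_pure _ _).2 le_rfl 0
      have hX'n : Amp n T.X' := amp_of_inR (T.inR hXab) (by lia)
      have hg := ((hξ X hX).2 a b hXab (by lia) T hX'n).1
      have hgu := s.nat _ _ (amp_pureB n T.N b) hYn (T.g ≫ u)
      rw [s.good _ _ _ ((good_single T.N).shift (-b)), ← (hξ Y hY).1 hYn] at hgu
      unfold Compat at hg hgu ⊢
      obtain ⟨r, hr⟩ := Triangle.yoneda_exact₂ _ (F.map_distinguished _ T.mem)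
        (F.map u ≫ (ξ Y hY).hom - (ξ X hX).hom ≫ F'.map u) (by
          change F.map T.g ≫ _ = 0
          rw [Preadditive.comp_sub, sub_eq_zero, ← Category.assoc, ← F.map_comp, hgu,
            ← Category.assoc, hg, Category.assoc, F'.map_comp])
      change F.obj T.X' ⟶ F'.obj Y at r
      obtain rfl : r = 0 :=
        vanish h2 (fun v => hom_eq_zero (T.inR hXab) hYab (by lia) v) r
      exact sub_eq_zero.1 (hr.trans comp_zero)
    · obtain ⟨T, -, hTX⟩ := exists_nTri hneg hYab (hXab.mono le_rfl (show b ≤ b' by lia))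
        (Z := pureB (0 : A) (b' - 1)) (inR_pure _ _).2 le_rfl 0
      have hY'n : Amp n T.X' := amp_of_inR (T.inR hYab) (by lia)
      have hπ : Compat F F' T.π (ξ Y hY) (ξ T.X' (hY'n.mono (Nat.le_succ n))) := by
        rw [(hξ T.X' _).1 hY'n]
        exact ((hξ Y hY).2 a' b' hYab (by lia) T hY'n).2
      have h := ihm (p + (q - 1)) (by lia) p (q - 1) ((b - (b' - 1)).toNat) rfl hp (by lia) X T.X' hX
        (hY'n.mono (Nat.le_succ n)) a b _ _ hXab hpa (T.inR hYab) (by lia) (by lia) (u ≫ T.π)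
      unfold Compat at hπ h ⊢
      obtain ⟨r, hr⟩ := Triangle.coyoneda_exact₂ _ (F'.map_distinguished _ T.mem)
        (F.map u ≫ (ξ Y hY).hom - (ξ X hX).hom ≫ F'.map u) (by
          change _ ≫ F'.map T.π = 0
          rw [Preadditive.sub_comp, sub_eq_zero, Category.assoc, ← hπ, ← Category.assoc,
            ← F.map_comp, h, Category.assoc, F'.map_comp])
      change F.obj X ⟶ F'.obj (pureB T.N b') at r
      obtain rfl : r = 0 := vanish h2 hTX r
      exact sub_eq_zero.1 (hr.trans zero_comp)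

theorem exists_next {n : ℕ} (s : Sol c n) :
    ∃ s' : Sol c (n + 1), ∀ X (h : Amp n X), s'.η X (h.mono (Nat.le_succ n)) = s.η X h := by
  choose ξ hξ using exists_spec hneg h2 s
  refine ⟨⟨ξ, fun X Y hX hY u => ?_, fun X hX a ha => ?_⟩, fun X h => (hξ X _).1 h⟩
  · obtain ⟨a, ha⟩ := id hX
    obtain ⟨a', ha'⟩ := id hY
    exact nat_of_spec hneg h2 s ξ hξ _ (n + 1) (n + 1) ((a - a').toNat) rfl le_rfl le_rfl
      X Y hX hY a _ a' _ ha le_rfl ha' le_rfl (by lia) u
  · obtain ⟨M, k, e, he⟩ := id ha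
    have hn : Amp n X := amp_of_inR ((((inR_single M).shift k)).of_iso e.symm) (by lia)
    exact ((hξ X hX).1 hn).trans (s.good X hn a ha)

include c in
theorem nonempty_natIso : Nonempty (F ≅ F') := by
  choose next hnext using fun n (s : Sol c n) => exists_next hneg h2 s
  let seq : ∀ n, Sol c n := fun n => Nat.rec (motive := fun n => Sol c n) (sol0 c) next n
  have hseq : ∀ (n m : ℕ) (hnm : n ≤ m) (X : DerivedCategory.Bounded A) (h : Amp n X),
      (seq m).η X (h.mono hnm) = (seq n).η X h := by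
    intro n m hnm
    induction m, hnm using Nat.le_induction with
    | base => intro X h; rfl
    | succ m hnm ih => intro X h; exact (hnext m (seq m) X (h.mono hnm)).trans (ih X h)
  choose amp hamp using exists_amp (A := A)
  refine ⟨NatIso.ofComponents (fun X => (seq (amp X)).η X (hamp X)) fun {X Y} u => ?_⟩
  rw [← hseq (amp X) (max (amp X) (amp Y)) (le_max_left _ _) X (hamp X),
    ← hseq (amp Y) (max (amp X) (amp Y)) (le_max_right _ _) Y (hamp Y)]
  exact (seq _).nat X Y _ _ u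

end Groth.Agent.Sib43
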