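import Mathlib.CategoryTheory.Triangulated.Functor

/-! Compatibility of a family of isomorphisms `F X ≅ F' X` with morphisms. -/

set_option autoImplicit false

namespace Groth.Agent.Sib43

open CategoryTheory CategoryTheory.Limits CategoryTheory.Pretriangulated

variable {C D : Type*} [Category C] [Category D] [HasShift C ℤ] [HasShift D ℤ]
variable (F F' : C ⥤ D) [F.CommShift ℤ] [F'.CommShift ℤ]

/-- Shift of an isomorphism `F X ≅ F' X`. -/
noncomputable def sh (n : ℤ) {X : C} (a : F.obj X ≅ F'.obj X) :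
    F.obj (X⟦n⟧) ≅ F'.obj (X⟦n⟧) :=
  (F.commShiftIso n).app X ≪≫ (shiftFunctor D n).mapIso a ≪≫ ((F'.commShiftIso n).app X).symm

/-- Compatibility of `a`, `b` with `u`. -/
def Compat {X Y : C} (u : X ⟶ Y) (a : F.obj X ≅ F'.obj X) (b : F.obj Y ≅ F'.obj Y) : Prop :=
  F.map u ≫ b.hom = a.hom ≫ F'.map u

variable {F F'}

omit [HasShift C ℤ] [HasShift D ℤ] [F.CommShift ℤ] [F'.CommShift ℤ] in
theorem Compat.comp {X Y Z : C} {u : X ⟶ Y} {v : Y ⟶ Z} {a : F.obj X ≅ F'.obj X}
    {b : F.obj Y ≅ F'.obj Y} {c : F.obj Z ≅ F'.obj Z} (h : Compat F F' u a b)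
    (h' : Compat F F' v b c) : Compat F F' (u ≫ v) a c := by
  unfold Compat at *
  rw [F.map_comp, F'.map_comp, Category.assoc, h', ← Category.assoc, h, Category.assoc]

omit [HasShift C ℤ] [HasShift D ℤ] [F.CommShift ℤ] [F'.CommShift ℤ] in
theorem Compat.inv {X Y : C} {e : X ≅ Y} {a : F.obj X ≅ F'.obj X}
    {b : F.obj Y ≅ F'.obj Y} (h : Compat F F' e.hom a b) : Compat F F' e.inv b a := by
  unfold Compat at *
  rw [← cancel_epi (F.map e.hom), ← Category.assoc, ← F.map_comp, e.hom_inv_id, F.map_id,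
    Category.id_comp, ← Category.assoc, h, Category.assoc, ← F'.map_comp, e.hom_inv_id, F'.map_id,
    Category.comp_id]

omit [HasShift C ℤ] [HasShift D ℤ] [F.CommShift ℤ] [F'.CommShift ℤ] in
theorem Compat.id {X : C} (a : F.obj X ≅ F'.obj X) : Compat F F' (𝟙 X) a a := by
  simp [Compat]

omit [HasShift C ℤ] [HasShift D ℤ] [F.CommShift ℤ] [F'.CommShift ℤ] in
theorem eq_of_compat_id {X : C} {a b : F.obj X ≅ F'.obj X} (h : Compat F F' (𝟙 X) a b) :
    a = b := by
  ext; simpa [Compat] using h.symm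

/-- Transport along an isomorphism. -/
noncomputable def transport {X Y : C} (e : X ≅ Y) (b : F.obj Y ≅ F'.obj Y) :
    F.obj X ≅ F'.obj X := F.mapIso e ≪≫ b ≪≫ (F'.mapIso e).symm

omit [HasShift C ℤ] [HasShift D ℤ] [F.CommShift ℤ] [F'.CommShift ℤ] in
theorem compat_transport {X Y : C} (e : X ≅ Y) (b : F.obj Y ≅ F'.obj Y) :
    Compat F F' e.hom (transport e b) b := by
  simp [Compat, transport, ← F'.map_comp]

theorem Compat.shift {X Y : C} {u : X ⟶ Y} {a : F.obj X ≅ F'.obj X}
    {b : F.obj Y ≅ F'.obj Y} (h : Compat F F' u a b) (n : ℤ) :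
    Compat F F' (u⟦n⟧') (sh F F' n a) (sh F F' n b) := by
  unfold Compat at *
  simp only [sh, Iso.trans_hom, Iso.app_hom, Functor.mapIso_hom, Iso.symm_hom, Iso.app_inv,
    Category.assoc]
  rw [Functor.commShiftIso_hom_naturality_assoc, ← Functor.map_comp_assoc, h,
    Functor.map_comp_assoc, Functor.commShiftIso_inv_naturality]

theorem compat_shiftFunctorZero {X : C} (a : F.obj X ≅ F'.obj X) :
    Compat F F' ((shiftFunctorZero C ℤ).hom.app X) (sh F F' 0 a) a := by
  simp [Compat, sh, Functor.commShiftIso_zero, ← F'.map_comp]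

theorem compat_shiftFunctorAdd' (n m k : ℤ) (h : n + m = k) {X : C} (a : F.obj X ≅ F'.obj X) :
    Compat F F' ((shiftFunctorAdd' C n m k h).hom.app X) (sh F F' k a) (sh F F' m (sh F F' n a)) := by
  simp only [Compat, sh, F.commShiftIso_add' h, F'.commShiftIso_add' h, Iso.trans_hom, Iso.app_hom,
    Functor.mapIso_hom, Iso.symm_hom, Iso.app_inv, Functor.CommShift.isoAdd'_hom_app,
    Functor.CommShift.isoAdd'_inv_app, Category.assoc, Functor.map_comp]
  simp [← F'.map_comp, NatTrans.naturality_assoc]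

variable [Preadditive C] [Preadditive D] [F.Additive] [F'.Additive]

omit [HasShift C ℤ] [HasShift D ℤ] [F.CommShift ℤ] [F'.CommShift ℤ] in
theorem Compat.add {X Y : C} {u v : X ⟶ Y} {a : F.obj X ≅ F'.obj X}
    {b : F.obj Y ≅ F'.obj Y} (h : Compat F F' u a b) (h' : Compat F F' v a b) :
    Compat F F' (u + v) a b := by
  unfold Compat at *
  rw [F.map_add, F'.map_add, Preadditive.add_comp, Preadditive.comp_add, h, h']

end Groth.Agent.Sib43
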