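import Groth.Agent.Sib43.Basic
import Mathlib.CategoryTheory.Triangulated.Pretriangulated

/-! The isomorphism on pure objects is compatible with all morphisms between them. -/

set_option autoImplicit false

namespace Groth.Agent.Sib43

open CategoryTheory CategoryTheory.Limits CategoryTheory.Pretriangulated

variable {A C D : Type*} [Category A] [Category C] [Category D]
  [HasShift C ℤ] [HasShift D ℤ]
  (S : A ⥤ C) (F F' : C ⥤ D) [F.CommShift ℤ] [F'.CommShift ℤ] (c : S ⋙ F ≅ S ⋙ F')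

/-- The component of `c`, at the composed object. -/
abbrev cc {S : A ⥤ C} {F F' : C ⥤ D} (c : S ⋙ F ≅ S ⋙ F') (M : A) :
    F.obj (S.obj M) ≅ F'.obj (S.obj M) := c.app M

/-- Objects isomorphic to a shift of an object of `A`, with the transported isomorphism. -/
def Good {X : C} (a : F.obj X ≅ F'.obj X) : Prop :=
  ∃ (M : A) (n : ℤ) (e : X ≅ (S.obj M)⟦n⟧), Compat F F' e.hom a (sh F F' n (cc c M))

variable {S F F' c}

theorem Good.shift {X : C} {a : F.obj X ≅ F'.obj X} (h : Good S F F' c a) (k : ℤ) :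
    Good S F F' c (sh F F' k a) := by
  obtain ⟨M, n, e, he⟩ := h
  refine ⟨M, n + k, (shiftFunctor C k).mapIso e ≪≫
    ((shiftFunctorAdd' C n k (n + k) rfl).app (S.obj M)).symm, ?_⟩
  exact (he.shift k).comp (Compat.inv (e := (shiftFunctorAdd' C n k (n + k) rfl).app (S.obj M))
    (compat_shiftFunctorAdd' n k (n + k) rfl (cc c M)))

theorem good_single (M : A) : Good S F F' c (X := S.obj M) (cc c M) :=
  ⟨M, 0, ((shiftFunctorZero C ℤ).app (S.obj M)).symm,
    Compat.inv (e := (shiftFunctorZero C ℤ).app (S.obj M)) (compat_shiftFunctorZero (cc c M))⟩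

theorem good_transport {X Y : C} (e : X ≅ Y) {b : F.obj Y ≅ F'.obj Y} (h : Good S F F' c b) :
    Good S F F' c (transport e b) := by
  obtain ⟨M, n, e', he⟩ := h
  exact ⟨M, n, e ≪≫ e', (compat_transport e b).comp he⟩

theorem exists_good {X : C} {M : A} {n : ℤ} (e : X ≅ (S.obj M)⟦n⟧) :
    ∃ a : F.obj X ≅ F'.obj X, Good S F F' c a :=
  ⟨_, good_transport e ((good_single M).shift n)⟩

theorem exists_shift_preimage {X Y : C} {n m : ℤ} (w : X⟦n⟧ ⟶ Y⟦m⟧) :
    ∃ v : X ⟶ Y⟦m - n⟧,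
      w = v⟦n⟧' ≫ (shiftFunctorAdd' C (m - n) n m (by lia)).inv.app Y := by
  obtain ⟨v, hv⟩ := (shiftFunctor C n).map_surjective
    (w ≫ (shiftFunctorAdd' C (m - n) n m (by lia)).hom.app Y)
  exact ⟨v, by simp [hv]⟩

theorem Good.compat
    (hnat : ∀ (M N : A) (n : ℤ) (u : S.obj M ⟶ (S.obj N)⟦n⟧),
      Compat F F' u (cc c M) (sh F F' n (cc c N)))
    {X Y : C} {a : F.obj X ≅ F'.obj X} {b : F.obj Y ≅ F'.obj Y}
    (ha : Good S F F' c a) (hb : Good S F F' c b) (u : X ⟶ Y) : Compat F F' u a b := by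
  obtain ⟨M, n, e, he⟩ := ha
  obtain ⟨N, m, e', he'⟩ := hb
  obtain ⟨v, hv⟩ := exists_shift_preimage (e.inv ≫ u ≫ e'.hom)
  have h1 := ((hnat M N (m - n) v).shift n).comp (Compat.inv
    (e := (shiftFunctorAdd' C (m - n) n m (by lia)).app (S.obj N))
    (compat_shiftFunctorAdd' (m - n) n m (by lia) (cc c N)))
  rw [Iso.app_inv, ← hv] at h1
  have h2 := (he.comp h1).comp he'.inv
  simpa using h2

section

variable [Preadditive D] [∀ n : ℤ, (shiftFunctor D n).Additive]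

/-- Vanishing between shifts from vanishing of negative degree morphisms. -/
theorem hom_eq_zero_of_neg {X Y : D} (h : ∀ q : ℤ, q < 0 → ∀ f : X ⟶ Y⟦q⟧, f = 0)
    {n m : ℤ} (hnm : m < n) (w : X⟦n⟧ ⟶ Y⟦m⟧) : w = 0 := by
  obtain ⟨v, hv⟩ := exists_shift_preimage w
  simp [hv, h (m - n) (by lia) v]

include c in
theorem hom_eq_zero_of_neg' (h2 : ∀ (M N : A) (q : ℤ), q < 0 →
      ∀ f : F.obj (S.obj M) ⟶ (F.obj (S.obj N))⟦q⟧, f = 0)
    {M N : A} {n m : ℤ} (hnm : m < n)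
    (w : F.obj ((S.obj M)⟦n⟧) ⟶ F'.obj ((S.obj N)⟦m⟧)) : w = 0 := by
  have := hom_eq_zero_of_neg (h2 M N) hnm ((F.commShiftIso n).inv.app (S.obj M) ≫ w ≫
    (sh F F' m (cc c N)).inv ≫ (F.commShiftIso m).hom.app (S.obj N))
  refine (cancel_epi ((F.commShiftIso n).inv.app (S.obj M))).1 ?_
  refine (cancel_mono ((sh F F' m (cc c N)).inv ≫ (F.commShiftIso m).hom.app (S.obj N))).1 ?_
  rw [Category.assoc]
  exact this.trans (by rw [comp_zero, zero_comp])

end

section

variable [Preadditive C] [HasZeroObject C] [∀ n : ℤ, (shiftFunctor C n).Additive] [Pretriangulated C]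
  [Preadditive D] [HasZeroObject D] [∀ n : ℤ, (shiftFunctor D n).Additive] [Pretriangulated D]
  [F.IsTriangulated] [F'.IsTriangulated] [S.Full]

theorem natural_pure
    (hC : ∀ (M N : A) (n : ℤ), n < 0 → ∀ u : S.obj M ⟶ (S.obj N)⟦n⟧, u = 0)
    (h2 : ∀ (M N : A) (q : ℤ), q < 0 →
      ∀ f : F.obj (S.obj M) ⟶ (F.obj (S.obj N))⟦q⟧, f = 0)
    (htri : ∀ (M N : A) (n : ℤ), 0 < n → ∀ u : S.obj M ⟶ (S.obj N)⟦n⟧,
      ∃ (K E : A) (f : K ⟶ E) (g : E ⟶ M) (δ : S.obj M ⟶ (S.obj K)⟦(1 : ℤ)⟧),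
        Triangle.mk (S.map f) (S.map g) δ ∈ distTriang C ∧ S.map g ≫ u = 0)
    (M N : A) (n : ℤ) (u : S.obj M ⟶ (S.obj N)⟦n⟧) :
    Compat F F' u (cc c M) (sh F F' n (cc c N)) := by
  by_cases hn : n < 0
  · simp [hC M N n hn u, Compat]
  obtain ⟨k, hk⟩ := Int.eq_ofNat_of_zero_le (not_lt.1 hn)
  clear hn
  induction k generalizing M N n with
  | zero =>
    obtain rfl : n = 0 := by simpa using hk
    obtain ⟨f, hf⟩ := S.map_surjective (u ≫ (shiftFunctorZero C ℤ).hom.app (S.obj N))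
    have h : Compat F F' (S.map f) (cc c M) (cc c N) := c.hom.naturality f
    rw [hf] at h
    have := h.comp (Compat.inv (e := (shiftFunctorZero C ℤ).app (S.obj N))
      (compat_shiftFunctorZero (cc c N)))
    simpa using this
  | succ k ih =>
    obtain ⟨K, E, f, g, δ, hT, hgu⟩ := htri M N n (by lia) u
    obtain ⟨w, hw⟩ : ∃ w : (S.obj K)⟦(1 : ℤ)⟧ ⟶ (S.obj N)⟦n⟧, u = δ ≫ w :=
      Triangle.yoneda_exact₃ _ hT u hgu
    obtain ⟨v, hv⟩ := exists_shift_preimage w
    have hw' : Compat F F' w (sh F F' 1 (cc c K)) (sh F F' n (cc c N)) := by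
      rw [hv]
      exact ((ih K N (n - 1) v (by lia)).shift 1).comp (Compat.inv
        (e := (shiftFunctorAdd' C (n - 1) 1 n (by lia)).app (S.obj N))
        (compat_shiftFunctorAdd' (n - 1) 1 n (by lia) (cc c N)))
    have hδ : Compat F F' δ (cc c M) (sh F F' 1 (cc c K)) := by
      obtain ⟨γ, hγ₂, hγ₃⟩ := complete_distinguished_triangle_morphism _ _
        (F.map_distinguished _ hT) (F'.map_distinguished _ hT) (cc c K).hom (cc c E).hom
        (c.hom.naturality f)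
      change F.map (S.map g) ≫ γ = (cc c E).hom ≫ F'.map (S.map g) at hγ₂
      change F.obj (S.obj M) ⟶ F'.obj (S.obj M) at γ
      have h0 : F.map (S.map g) ≫ (γ - (cc c M).hom) = 0 := by
        rw [Preadditive.comp_sub, sub_eq_zero]
        exact hγ₂.trans (c.hom.naturality g).symm
      obtain ⟨r, hr⟩ := Triangle.yoneda_exact₃ _ (F.map_distinguished _ hT) (γ - (cc c M).hom) h0
      change (F.obj (S.obj K))⟦(1 : ℤ)⟧ ⟶ F'.obj (S.obj M) at r
      have hr0 : r = 0 := by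
        have := hom_eq_zero_of_neg (h2 K M) (show (0 : ℤ) < 1 by lia)
          (r ≫ (cc c M).inv ≫ (shiftFunctorZero D ℤ).inv.app _)
        refine (cancel_mono ((cc c M).inv ≫ (shiftFunctorZero D ℤ).inv.app _)).1 ?_
        exact this.trans zero_comp.symm
      obtain rfl : γ = (cc c M).hom := sub_eq_zero.1 (hr.trans (by subst hr0; exact comp_zero))
      change (F.map δ ≫ (F.commShiftIso (1 : ℤ)).hom.app (S.obj K)) ≫ (cc c K).hom⟦(1 : ℤ)⟧' =
        (cc c M).hom ≫ F'.map δ ≫ (F'.commShiftIso (1 : ℤ)).hom.app (S.obj K) at hγ₃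
      simp only [Compat, sh, Iso.trans_hom, Iso.app_hom, Functor.mapIso_hom, Iso.symm_hom,
        Iso.app_inv] at hγ₃ ⊢
      rw [← Category.assoc, ← Category.assoc]
      refine (congrArg (· ≫ (F'.commShiftIso (1 : ℤ)).inv.app (S.obj K)) hγ₃).trans ?_
      simp
    rw [hw]
    exact hδ.comp hw'

end

end Groth.Agent.Sib43
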