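import Groth.Prelude.Def_W4stkfunctorsequivSib
import Groth.Agent.DC43.Trunc
import Groth.Agent.Sib43.Pure
import Mathlib.Algebra.Homology.DerivedCategory.SingleTriangle
import Mathlib.CategoryTheory.Triangulated.TStructure.TruncLTGE

/-! Facts about `D^b(A)` and objects placed in one degree. -/

set_option autoImplicit false
universe w v u

namespace Groth.Agent.Sib43

open CategoryTheory CategoryTheory.Limits CategoryTheory.Pretriangulated DerivedCategory DEquiv

variable {A : Type u} [Category.{v} A] [Abelian A] [HasDerivedCategory.{w} A]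

local notation "τ" => (DerivedCategory.TStructure.t (C := A))

/-- Amplitude of a bounded object. -/
def InR (X : DerivedCategory.Bounded A) (a b : ℤ) : Prop := X.obj.IsGE a ∧ X.obj.IsLE b

theorem InR.mono {X : DerivedCategory.Bounded A} {a b a' b' : ℤ} (h : InR X a b) (ha : a' ≤ a)
    (hb : b ≤ b') : InR X a' b' := by
  obtain ⟨h₁, h₂⟩ := h
  exact ⟨(τ).isGE_of_ge _ a' a ha, (τ).isLE_of_le _ b b' hb⟩

theorem exists_inR (X : DerivedCategory.Bounded A) : ∃ a b : ℤ, InR X a b := by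
  obtain ⟨⟨a, ha⟩, ⟨b, hb⟩⟩ := X.property
  exact ⟨a, b, ha, hb⟩

theorem InR.of_iso {X Y : DerivedCategory.Bounded A} {a b : ℤ} (h : InR X a b) (e : X ≅ Y) :
    InR Y a b := by
  obtain ⟨h₁, h₂⟩ := h
  let e' : X.obj ≅ Y.obj := DerivedCategory.Bounded.ι.mapIso e
  exact ⟨(τ).isGE_of_iso e' a, (τ).isLE_of_iso e' b⟩

theorem InR.shift {X : DerivedCategory.Bounded A} {a b : ℤ} (h : InR X a b) (k : ℤ) :
    InR (X⟦k⟧) (a - k) (b - k) := by
  obtain ⟨h₁, h₂⟩ := h
  let e : (X⟦k⟧).obj ≅ X.obj⟦k⟧ := (DerivedCategory.Bounded.ι.commShiftIso k).app X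
  have := (τ).isGE_shift X.obj a k (a - k) (by lia)
  have := (τ).isLE_shift X.obj b k (b - k) (by lia)
  exact ⟨(τ).isGE_of_iso e.symm _, (τ).isLE_of_iso e.symm _⟩

theorem inR_single (M : A) : InR ((singleB A).obj M) 0 0 :=
  ⟨inferInstanceAs (((singleFunctor A 0).obj M).IsGE 0),
    inferInstanceAs (((singleFunctor A 0).obj M).IsLE 0)⟩

theorem hom_eq_zero {X Y : DerivedCategory.Bounded A} {a b a' b' : ℤ} (hX : InR X a b)
    (hY : InR Y a' b') (h : b < a') (u : X ⟶ Y) : u = 0 := by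
  obtain ⟨_, h₁⟩ := hX
  obtain ⟨h₂, _⟩ := hY
  ext
  exact (τ).zero u.hom b a' h

theorem hom_eq_zero_neg (M N : A) (n : ℤ) (hn : n < 0)
    (u : (singleB A).obj M ⟶ ((singleB A).obj N)⟦n⟧) : u = 0 :=
  hom_eq_zero (inR_single M) ((inR_single N).shift n) (by lia) u

instance : (singleB A).Full where
  map_surjective {M N} u := by
    obtain ⟨f, hf⟩ := (singleFunctor A 0).map_surjective u.hom
    exact ⟨f, ObjectProperty.hom_ext _ hf⟩

instance : (singleB A).Faithful where
  map_injective {M N} f g h :=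
    (singleFunctor A 0).map_injective (congrArg (fun t => t.hom) h)

instance : (singleB A).Additive where
  map_add {M N f g} := ObjectProperty.hom_ext _ ((singleFunctor A 0).map_add (f := f) (g := g))

/-- The object placed in degree `q`, in the derived category. -/
noncomputable def pureIso (M : A) (q : ℤ) :
    (((singleB A).obj M)⟦-q⟧).obj ≅ (singleFunctor A q).obj M :=
  (DerivedCategory.Bounded.ι.commShiftIso (-q)).app _ ≪≫
    ((SingleFunctors.shiftIso (DerivedCategory.singleFunctors A) (-q) q 0 (by lia)).app M)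

theorem exists_iso_pure {X : DerivedCategory.Bounded A} {q : ℤ} (h : InR X q q) :
    ∃ M : A, Nonempty (X ≅ ((singleB A).obj M)⟦-q⟧) := by
  obtain ⟨h₁, h₂⟩ := h
  obtain ⟨M, ⟨e⟩⟩ := exists_iso_singleFunctor_obj_of_isGE_of_isLE X.obj q
  exact ⟨M, ⟨ObjectProperty.isoMk _ (e ≪≫ (pureIso M q).symm)⟩⟩

theorem inR_pure (M : A) (q : ℤ) : InR (((singleB A).obj M)⟦-q⟧) q q := by
  simpa using (inR_single M).shift (-q)

/-- A morphism out of an object of `A` of positive degree is killed by an epimorphism. -/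
theorem exists_triangle_comp_zero (M N : A) (n : ℤ) (hn : 0 < n)
    (u : (singleB A).obj M ⟶ ((singleB A).obj N)⟦n⟧) :
    ∃ (K E : A) (f : K ⟶ E) (g : E ⟶ M)
      (δ : (singleB A).obj M ⟶ ((singleB A).obj K)⟦(1 : ℤ)⟧),
      Triangle.mk ((singleB A).map f) ((singleB A).map g) δ ∈ distTriang (DerivedCategory.Bounded A) ∧
        (singleB A).map g ≫ u = 0 := by
  obtain ⟨hN₁, hN₂⟩ := (inR_single N).shift n
  have := (τ).isLE_of_le ((((singleB A).obj N)⟦n⟧).obj) (0 - n) (0 - 1) (by lia)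
  obtain ⟨E, s, hs, -, hsu⟩ := Groth.Agent.DC43.exists_cover_map (C := A) (fun _ _ => True)
    (fun _ _ _ _ _ _ => trivial) (fun L => ⟨L, 𝟙 L, inferInstance, trivial⟩)
    ((singleFunctor A 0).obj M) ((((singleB A).obj N)⟦n⟧).obj) u.hom 0 inferInstance this
  obtain ⟨g, hg⟩ := (singleFunctor A 0).map_surjective s
  subst hg
  have hg : Epi g := by
    have : Epi ((singleFunctor A 0 ⋙ homologyFunctor A 0).map g) := hs
    have h : g = (singleFunctorCompHomologyFunctorIso A 0).inv.app E ≫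
        (singleFunctor A 0 ⋙ homologyFunctor A 0).map g ≫
          (singleFunctorCompHomologyFunctorIso A 0).hom.app M :=
      (NatIso.naturality_1 (singleFunctorCompHomologyFunctorIso A 0) g).symm.trans rfl
    rw [h]
    infer_instance
  let S : ShortComplex A := ShortComplex.mk (kernel.ι g) g (kernel.condition g)
  have hS : S.ShortExact :=
    { exact := S.exact_of_f_is_kernel (kernelIsKernel g)
      mono_f := inferInstanceAs (Mono (kernel.ι g))
      epi_g := hg }
  let e : (((singleB A).obj (kernel g))⟦(1 : ℤ)⟧).obj ≅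
      ((singleFunctor A 0).obj (kernel g))⟦(1 : ℤ)⟧ :=
    (DerivedCategory.Bounded.ι.commShiftIso (1 : ℤ)).app _
  refine ⟨kernel g, E, kernel.ι g, g, ObjectProperty.homMk (hS.singleδ ≫ e.inv), ?_,
    ObjectProperty.hom_ext _ hsu⟩
  refine isomorphic_distinguished _ hS.singleTriangle_distinguished _
    (Triangle.isoMk _ _ (Iso.refl _) (Iso.refl _) (Iso.refl _) ?_ ?_ ?_)
  · exact (Category.comp_id _).trans (Category.id_comp _).symm
  · exact (Category.comp_id _).trans (Category.id_comp _).symm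
  · change ((hS.singleδ ≫ e.inv) ≫ e.hom) ≫ (shiftFunctor (DerivedCategory A) (1 : ℤ)).map (𝟙 _) =
      𝟙 _ ≫ hS.singleδ
    simp

/-- Induction on bounded objects along distinguished triangles. -/
theorem bounded_induction (P : ObjectProperty (DerivedCategory.Bounded A))
    (hiso : ∀ X Y, (X ≅ Y) → P X → P Y)
    (hext : ∀ T ∈ distTriang (DerivedCategory.Bounded A),
      P (Triangle.obj₁ T) → P (Triangle.obj₃ T) → P (Triangle.obj₂ T))
    (lo : ℤ) (hpure : ∀ (M : A) (q : ℤ), lo ≤ q → P (((singleB A).obj M)⟦-q⟧))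
    (X : DerivedCategory.Bounded A) (hlo : X.obj.IsGE lo) : P X := by
  obtain ⟨a₀, b, -, hb⟩ := exists_inR X
  obtain ⟨k, hk⟩ : ∃ k : ℕ, b ≤ lo + k := ⟨(b - lo).toNat, by lia⟩
  have hX : InR X lo (lo + k) := InR.mono ⟨hlo, hb⟩ le_rfl hk
  clear hlo hb a₀ hk b
  induction k generalizing X lo with
  | zero =>
    obtain ⟨M, ⟨e⟩⟩ := exists_iso_pure (by simpa using hX)
    exact hiso _ _ e.symm (hpure M lo le_rfl)
  | succ k ih =>
    obtain ⟨h₁, h₂⟩ := hX
    let T₁ : DerivedCategory.Bounded A := ⟨((τ).truncLT (lo + 1)).obj X.obj,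
      ⟨lo, inferInstance⟩, ⟨lo, (τ).isLE_truncLT_obj _ _ _ (by lia)⟩⟩
    let T₃ : DerivedCategory.Bounded A := ⟨((τ).truncGE (lo + 1)).obj X.obj,
      ⟨lo + 1, inferInstance⟩, ⟨lo + (k + 1 : ℕ), inferInstance⟩⟩
    let e : (T₁⟦(1 : ℤ)⟧).obj ≅ T₁.obj⟦(1 : ℤ)⟧ :=
      (DerivedCategory.Bounded.ι.commShiftIso (1 : ℤ)).app _
    let T : Triangle (DerivedCategory.Bounded A) := Triangle.mk (X := T₁) (Y := X) (Z := T₃)
      (ObjectProperty.homMk (((τ).truncLTι (lo + 1)).app X.obj))
      (ObjectProperty.homMk (((τ).truncGEπ (lo + 1)).app X.obj))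
      (ObjectProperty.homMk (((τ).truncGEδLT (lo + 1)).app X.obj ≫ e.inv))
    have hT : T ∈ distTriang (DerivedCategory.Bounded A) := by
      refine isomorphic_distinguished _ ((τ).triangleLTGE_distinguished (lo + 1) X.obj) _
        (Triangle.isoMk _ _ (Iso.refl _) (Iso.refl _) (Iso.refl _) ?_ ?_ ?_)
      · exact (Category.comp_id _).trans (Category.id_comp _).symm
      · exact (Category.comp_id _).trans (Category.id_comp _).symm
      · change ((((τ).truncGEδLT (lo + 1)).app X.obj ≫ e.inv) ≫ e.hom) ≫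
          (shiftFunctor (DerivedCategory A) (1 : ℤ)).map (𝟙 _) =
            𝟙 _ ≫ ((τ).truncGEδLT (lo + 1)).app X.obj
        simp
    refine hext T hT ?_ (ih (lo + 1) (fun M q hq => hpure M q (by lia)) T₃ ⟨?_, ?_⟩)
    · change P T₁
      obtain ⟨M, ⟨e'⟩⟩ := exists_iso_pure (X := T₁) (q := lo)
        ⟨inferInstanceAs ((τ).IsGE (((τ).truncLT (lo + 1)).obj X.obj) lo),
          (τ).isLE_truncLT_obj _ _ _ (by lia)⟩
      exact hiso _ _ e'.symm (hpure M lo le_rfl)
    · exact inferInstanceAs ((τ).IsGE (((τ).truncGE (lo + 1)).obj X.obj) (lo + 1))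
    · have : (τ).IsLE (((τ).truncGE (lo + 1)).obj X.obj) (lo + (k + 1 : ℕ)) := inferInstance
      exact (τ).isLE_of_le _ (lo + (k + 1 : ℕ)) _ (by lia)

end Groth.Agent.Sib43
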