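import Groth.Agent.Sib43.FullFaithful

/-! Triangles killing the top cohomology by a negative object. -/

set_option autoImplicit false
universe w v u

namespace Groth.Agent.Sib43

open CategoryTheory CategoryTheory.Limits CategoryTheory.Pretriangulated DerivedCategory DEquiv

variable {A : Type u} [Category.{v} A] [Abelian A] [HasDerivedCategory.{w} A]

local notation "τ" => (DerivedCategory.TStructure.t (C := A))

/-- The object `N` placed in degree `b`, in `D^b(A)`. -/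
noncomputable abbrev pureB (N : A) (b : ℤ) : DerivedCategory.Bounded A := ((singleB A).obj N)⟦-b⟧

/-- A triangle `N[-b] ⟶ X ⟶ X'` with `N` negative, covering the top cohomology. -/
structure NTri (X : DerivedCategory.Bounded A) (b : ℤ) where
  N : A
  g : pureB N b ⟶ X
  X' : DerivedCategory.Bounded A
  π : X ⟶ X'
  δ : X' ⟶ (pureB N b)⟦(1 : ℤ)⟧
  mem : Triangle.mk g π δ ∈ distTriang (DerivedCategory.Bounded A)
  epi : Epi ((homologyFunctor A b).map g.hom)
  zero : ∀ x : X ⟶ pureB N b, x = 0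

theorem NTri.inR {X : DerivedCategory.Bounded A} {a b : ℤ} (hX : InR X a b) (T : NTri X b) :
    InR T.X' (min a (b - 1)) (b - 1) := by
  obtain ⟨h₁, h₂⟩ := hX
  obtain ⟨hP₁, hP₂⟩ := inR_pure T.N b
  have hT : DerivedCategory.Bounded.ι.mapTriangle.obj (Triangle.mk T.g T.π T.δ) ∈
      distTriang (DerivedCategory A) := T.mem
  have hrot := rot_of_distTriang _ hT
  refine ⟨?_, (DerivedCategory.isLE_iff _ _).2 fun j hj => ?_⟩
  · have : (τ).IsGE X.obj (min a (b - 1)) := (τ).isGE_of_ge _ _ a (min_le_left _ _)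
    have : (τ).IsGE ((pureB T.N b).obj⟦(1 : ℤ)⟧) (min a (b - 1)) := by
      have := (τ).isGE_shift (pureB T.N b).obj b 1 (b - 1) (by lia)
      exact (τ).isGE_of_ge _ _ (b - 1) (min_le_right _ _)
    exact (τ).isGE₂ _ hrot _ ‹_› ‹_›
  · have hle : (τ).IsLE T.X'.obj b := by
      have : (τ).IsLE ((pureB T.N b).obj⟦(1 : ℤ)⟧) b := by
        have := (τ).isLE_shift (pureB T.N b).obj b 1 (b - 1) (by lia)
        exact (τ).isLE_of_le _ (b - 1) b (by lia)
      exact (τ).isLE₂ _ hrot _ h₂ this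
    by_cases h : b < j
    · exact DerivedCategory.isZero_of_isLE T.X'.obj b j h
    · obtain rfl : j = b := by lia
      have hz := DerivedCategory.isZero_of_isLE (pureB T.N j).obj j (j + 1) (by lia)
      have hepi : Epi ((homologyFunctor A j).map T.π.hom) :=
        (HomologySequence.epi_homologyMap_mor₂_iff _ hT j (j + 1) rfl).2 (hz.eq_of_tgt _ _)
      have := T.epi
      have h0 : (homologyFunctor A j).map T.π.hom = 0 := by
        rw [← cancel_epi ((homologyFunctor A j).map T.g.hom), comp_zero, ← Functor.map_comp,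
          show T.g.hom ≫ T.π.hom = 0 from comp_distTriang_mor_zero₁₂ _ hT, Functor.map_zero]
      exact @IsZero.of_epi_eq_zero _ _ _ _ _ _ hepi h0

/-- Maps to `N[-b]` vanish if maps from the top cohomology to `N` do. -/
theorem hom_pure_zero {X : DerivedCategory.Bounded A} {a b : ℤ} (hX : InR X a b) (N : A)
    (h : ∀ φ : (homologyFunctor A b).obj X.obj ⟶ N, φ = 0) (x : X ⟶ pureB N b) : x = 0 := by
  obtain ⟨-, h₂⟩ := hX
  obtain ⟨hP₁, hP₂⟩ := inR_pure N b
  ext
  have h₀ : ((τ).truncLTι b).app X.obj ≫ x.hom = 0 := (τ).zero _ (b - 1) b (by lia)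
  obtain ⟨y, hy⟩ := Triangle.yoneda_exact₂ _ ((τ).triangleLTGE_distinguished b X.obj) x.hom h₀
  change ((τ).truncGE b).obj X.obj ⟶ (pureB N b).obj at y
  replace hy : x.hom = ((τ).truncGEπ b).app X.obj ≫ y := hy
  have : (τ).IsLE X.obj b := h₂
  have hy0 : y = 0 := by
    refine Groth.Agent.DC43.eq_zero_of_homology_eq_zero y b inferInstance inferInstance hP₁ hP₂ ?_
    have := Groth.Agent.DC43.isIso_homology_truncGEπ X.obj b b le_rfl
    rw [← cancel_epi ((homologyFunctor A b).map (((τ).truncGEπ b).app X.obj)), comp_zero,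
      ← Functor.map_comp, ← hy]
    let e : (homologyFunctor A b).obj (pureB N b).obj ≅ N :=
      (homologyFunctor A b).mapIso (pureIso N b) ≪≫ (singleFunctorCompHomologyFunctorIso A b).app N
    exact (cancel_mono e.hom).1 ((h _).trans zero_comp.symm)
  rw [hy, hy0, comp_zero]
  rfl

theorem exists_nTri (hneg : ∀ X : A, ∃ (N : A) (p : N ⟶ X), Epi p ∧ ∀ f : X ⟶ N, f = 0)
    {X Y Z : DerivedCategory.Bounded A} {a b a' c : ℤ} (hX : InR X a b) (hY : InR Y a' b)
    (hZ : Z.obj.IsLE c) (hc : c ≤ b - 1) (f : X ⟶ Z) :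
    ∃ T : NTri X b, T.g ≫ f = 0 ∧ ∀ x : Y ⟶ pureB T.N b, x = 0 := by
  let H := (homologyFunctor A b).obj Y.obj
  obtain ⟨N, g₀, hg₀, ⟨hN, hNY⟩, hg₀f⟩ := Groth.Agent.DC43.exists_cover_map (C := A)
    (fun L N => (∀ φ : L ⟶ N, φ = 0) ∧ ∀ φ : H ⟶ N, φ = 0)
    (fun L H' N π _ h => ⟨fun φ => (cancel_epi π).1 ((h.1 _).trans comp_zero.symm), h.2⟩)
    (fun L => by
      obtain ⟨N, p, hp, hN⟩ := hneg (L ⊞ H)
      refine ⟨N, p ≫ biprod.fst, inferInstance, fun φ => ?_, fun φ => ?_⟩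
      · exact (cancel_epi (biprod.fst : L ⊞ H ⟶ L)).1 ((hN _).trans comp_zero.symm)
      · exact (cancel_epi (biprod.snd : L ⊞ H ⟶ H)).1 ((hN _).trans comp_zero.symm))
    X.obj Z.obj f.hom b hX.2 ((τ).isLE_of_le _ c (b - 1) hc)
  let g : pureB N b ⟶ X := ObjectProperty.homMk ((pureIso N b).hom ≫ g₀)
  obtain ⟨X', π, δ, hT⟩ := distinguished_cocone_triangle g
  refine ⟨⟨N, g, X', π, δ, hT, ?_, hom_pure_zero hX N hN⟩, ?_, hom_pure_zero hY N hNY⟩
  · change Epi ((homologyFunctor A b).map ((pureIso N b).hom ≫ g₀))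
    rw [Functor.map_comp]
    infer_instance
  · ext
    exact (Category.assoc _ _ _).trans ((congrArg ((pureIso N b).hom ≫ ·) hg₀f).trans comp_zero)

/-- Two triangles are dominated by a third. -/
theorem NTri.exists_sum {X : DerivedCategory.Bounded A} {b : ℤ} (T₁ T₂ : NTri X b) :
    ∃ (T : NTri X b) (h₁ : T₁.X' ⟶ T.X') (h₂ : T₂.X' ⟶ T.X'),
      T₁.π ≫ h₁ = T.π ∧ T₂.π ≫ h₂ = T.π := by
  let N := T₁.N ⊞ T₂.N
  let G : A ⥤ DerivedCategory.Bounded A := singleB A ⋙ shiftFunctor _ (-b)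
  let p₁ : pureB N b ⟶ pureB T₁.N b := G.map biprod.fst
  let p₂ : pureB N b ⟶ pureB T₂.N b := G.map biprod.snd
  let i₁ : pureB T₁.N b ⟶ pureB N b := G.map biprod.inl
  let i₂ : pureB T₂.N b ⟶ pureB N b := G.map biprod.inr
  let g : pureB N b ⟶ X := p₁ ≫ T₁.g + p₂ ≫ T₂.g
  have h11 : i₁ ≫ p₁ = 𝟙 _ := (G.map_comp _ _).symm.trans (by rw [biprod.inl_fst]; exact G.map_id _)
  have h22 : i₂ ≫ p₂ = 𝟙 _ := (G.map_comp _ _).symm.trans (by rw [biprod.inr_snd]; exact G.map_id _)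
  have h12 : i₁ ≫ p₂ = 0 := (G.map_comp _ _).symm.trans (by rw [biprod.inl_snd]; exact G.map_zero _ _)
  have h21 : i₂ ≫ p₁ = 0 := (G.map_comp _ _).symm.trans (by rw [biprod.inr_fst]; exact G.map_zero _ _)
  have htot : p₁ ≫ i₁ + p₂ ≫ i₂ = 𝟙 _ := by
    simp only [p₁, p₂, i₁, i₂]
    rw [← G.map_comp, ← G.map_comp]
    exact G.map_add.symm.trans ((congrArg G.map biprod.total).trans (G.map_id _))
  have hg₁ : i₁ ≫ g = T₁.g := by simp [g, reassoc_of% h11, reassoc_of% h12]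
  have hg₂ : i₂ ≫ g = T₂.g := by simp [g, reassoc_of% h22, reassoc_of% h21]
  obtain ⟨X', π, δ, hT⟩ := distinguished_cocone_triangle g
  have hgπ : g ≫ π = 0 := comp_distTriang_mor_zero₁₂ _ hT
  have hepi : Epi ((homologyFunctor A b).map g.hom) := by
    have : Epi ((homologyFunctor A b).map i₁.hom ≫ (homologyFunctor A b).map g.hom) := by
      rw [← Functor.map_comp, show i₁.hom ≫ g.hom = T₁.g.hom from congrArg (fun t => t.hom) hg₁]
      exact T₁.epi
    exact epi_of_epi ((homologyFunctor A b).map i₁.hom) _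
  have hzero : ∀ x : X ⟶ pureB N b, x = 0 := fun x => by
    rw [← Category.comp_id x, ← htot, Preadditive.comp_add, ← Category.assoc, ← Category.assoc,
      T₁.zero (x ≫ p₁), T₂.zero (x ≫ p₂), zero_comp, zero_comp, add_zero]
  obtain ⟨h₁, hh₁⟩ := Triangle.yoneda_exact₂ _ T₁.mem π (by
    change T₁.g ≫ π = 0
    rw [← hg₁, Category.assoc, hgπ, comp_zero])
  obtain ⟨h₂, hh₂⟩ := Triangle.yoneda_exact₂ _ T₂.mem π (by
    change T₂.g ≫ π = 0
    rw [← hg₂, Category.assoc, hgπ, comp_zero])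
  exact ⟨⟨N, g, X', π, δ, hT, hepi, hzero⟩, h₁, h₂, hh₁.symm, hh₂.symm⟩

end Groth.Agent.Sib43
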